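import Groth.Agent.VBTwo.GenPoint
import Groth.Agent.RelPCS.Single
import Groth.Agent.RPushQC.SectionsExact
import Groth.Agent.P1Split.Dim
import Groth.Agent.Higgs.Destab

/-!
# Subbundles of trivial bundles without sections
-/

set_option autoImplicit false
set_option linter.style.haveILetI false
set_option linter.unusedSectionVars false
set_option backward.isDefEq.respectTransparency false
set_option backward.isDefEq.respectTransparency.types false

universe u

open CategoryTheory CategoryTheory.Limits AlgebraicGeometry TopologicalSpace Opposite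
open Groth.Agent.CohFinite Groth.Agent.CurveRR Groth.Agent.W7Slope
open Groth.Agent.QC (res res_self res_res app_res)
open TMul (homOf val_homOf)

noncomputable section

namespace Groth.Agent.NegFilt

variable {X : Scheme.{u}}

/-- Evaluation at sections is additive in the morphism. -/
def appHom {A B : X.Modules} (U : X.Opens) (s : Γ(A, U)) : (A ⟶ B) →+ Γ(B, U) :=
  AddMonoidHom.mk' (fun f => f.app U s) fun _ _ => rfl

theorem app_sum {A B : X.Modules} {ι : Type*} (t : Finset ι) (f : ι → (A ⟶ B)) (U : X.Opens) (s : Γ(A, U)) :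
    (∑ i ∈ t, f i).app U s = ∑ i ∈ t, (f i).app U s :=
  map_sum (appHom U s) f t

theorem isCoh_freeMod [IsLocallyNoetherian X] (m : ℕ) : Coh.IsCoh (FlatMod.freeMod X m) :=
  have h := RelPCS.isFinLocFree_freeMod (X := X) m
  ⟨LocFree.isQCoh_of_isFinLocFree h, LocFree.isFT_of_isFinLocFree h⟩

variable (k : Type u) [Field k] [X.Over (Spec (CommRingCat.of k))]
  [IsProper (X ↘ Spec (CommRingCat.of k))] [IsIntegral X]

include k in
/-- Some coordinate projection of a proper subbundle of a trivial bundle stays injective. -/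
theorem grk_coker_eq_zero_or_exists (hX : RegCurve X) {N : X.Modules} {m : ℕ} (ι : N ⟶ FlatMod.freeMod X (m + 1)) [Mono ι] :
    grk (cokernel ι) = 0 ∨ ∃ ι' : N ⟶ FlatMod.freeMod X m, Mono ι' := by
  classical
  haveI := isNoetherian_of_proper k X
  obtain ⟨π, h1, h2, h3⟩ := P1Split.exists_proj (fun _ : Fin (m + 1) => Coh.structureModule X)
  let drop : Fin (m + 1) → (FlatMod.freeMod X (m + 1) ⟶ FlatMod.freeMod X m) := fun j =>
    ∑ i : Fin m, π (j.succAbove i) ≫ Sigma.ι (fun _ : Fin m => Coh.structureModule X) i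
  by_cases hex : ∃ j, Mono (ι ≫ drop j)
  · obtain ⟨j, hj⟩ := hex
    exact Or.inr ⟨_, hj⟩
  left
  push Not at hex
  let η := genericPoint X
  have hsurj : ∀ j, ∀ v : (Coh.structureModule X).presheaf.stalk η,
      WeakAssLib.stalkHom (Sigma.ι (fun _ : Fin (m + 1) => Coh.structureModule X) j) η v ∈
        Set.range (WeakAssLib.stalkHom ι η) := by
    intro j v
    let K := kernel (ι ≫ drop j)
    have hne : kernel.ι (ι ≫ drop j) ≠ 0 := fun h0 => hex j (Preadditive.mono_of_kernel_zero h0)
    have hKe : kernel.ι (ι ≫ drop j) ≫ ι =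
        (kernel.ι (ι ≫ drop j) ≫ ι ≫ π j) ≫ Sigma.ι (fun _ : Fin (m + 1) => Coh.structureModule X) j := by
      conv_lhs => rw [← Category.comp_id (kernel.ι (ι ≫ drop j) ≫ ι), ← h3, Preadditive.comp_sum]
      rw [Fin.sum_univ_succAbove _ j]
      have hz : ∑ i : Fin m, (kernel.ι (ι ≫ drop j) ≫ ι) ≫ π (j.succAbove i) ≫
          Sigma.ι (fun _ : Fin (m + 1) => Coh.structureModule X) (j.succAbove i) = 0 := by
        refine Finset.sum_eq_zero fun i _ => ?_
        obtain ⟨ρ, g1, g2, -⟩ := P1Split.exists_proj (fun _ : Fin m => Coh.structureModule X)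
        have hd : drop j ≫ ρ i = π (j.succAbove i) := by
          rw [Preadditive.sum_comp, Finset.sum_eq_single i]
          · rw [Category.assoc, g1, Category.comp_id]
          · intro i' _ hi'
            rw [Category.assoc, g2 i' i hi', comp_zero]
          · exact fun h => absurd (Finset.mem_univ _) h
        rw [← Category.assoc, ← hd, Category.assoc (kernel.ι (ι ≫ drop j)) ι,
          show kernel.ι (ι ≫ drop j) ≫ ι ≫ drop j ≫ ρ i = (kernel.ι (ι ≫ drop j) ≫ (ι ≫ drop j)) ≫ ρ i from by
            simp only [Category.assoc],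
          kernel.condition, zero_comp, zero_comp]
      rw [hz, add_zero]
      simp only [Category.assoc]
    have hh : kernel.ι (ι ≫ drop j) ≫ ι ≫ π j ≠ 0 := fun h0 => by
      rw [h0, zero_comp] at hKe
      exact hne ((cancel_mono ι).1 (hKe.trans zero_comp.symm))
    obtain ⟨w, hw⟩ := surjective_stalk_generic (TMul.isInvertible_structureModule (X := X)) _ hh v
    refine ⟨WeakAssLib.stalkHom (kernel.ι (ι ≫ drop j)) η w, ?_⟩
    obtain ⟨U, hU, s, rfl⟩ := TopCat.Presheaf.exists_germ_eq K.presheaf w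
    rw [← hw]
    change WeakAssLib.stalkHom ι η (WeakAssLib.stalkHom _ η (WeakAssLib.mgerm K hU s)) =
      WeakAssLib.stalkHom _ η (WeakAssLib.stalkHom _ η (WeakAssLib.mgerm K hU s))
    rw [WeakAssLib.stalkHom_germ, WeakAssLib.stalkHom_germ, WeakAssLib.stalkHom_germ, WeakAssLib.stalkHom_germ]
    exact congrArg (WeakAssLib.mgerm _ hU) (congrArg (fun f : K ⟶ FlatMod.freeMod X (m + 1) => f.app U s) hKe)
  have hs : Function.Surjective (WeakAssLib.stalkHom ι η) := by
    intro v
    obtain ⟨U, hU, s, rfl⟩ := TopCat.Presheaf.exists_germ_eq (FlatMod.freeMod X (m + 1)).presheaf v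
    choose w hw using fun j => hsurj j (WeakAssLib.mgerm _ hU ((π j).app U s))
    refine ⟨∑ j, w j, ?_⟩
    rw [map_sum]
    simp only [hw, WeakAssLib.stalkHom_germ]
    have h := congrArg (fun f : FlatMod.freeMod X (m + 1) ⟶ FlatMod.freeMod X (m + 1) => f.app U s) h3
    dsimp only at h
    rw [app_sum] at h
    show _ = WeakAssLib.mgerm _ hU s
    conv_rhs => rw [show s = (𝟙 (FlatMod.freeMod X (m + 1)) : _ ⟶ _).app U s from rfl, ← h]
    rw [map_sum]
    rfl
  letI : Field (X.presheaf.stalk η) := inferInstanceAs (Field X.functionField)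
  haveI : Subsingleton ((cokernel ι).presheaf.stalk η) := by
    by_contra h
    exact notMem_support_coker ι η hs h
  exact Module.finrank_zero_of_subsingleton

include k in
/-- Reduction to a subbundle of full rank. -/
theorem exists_full (hX : RegCurve X) {N : X.Modules} : ∀ (m : ℕ) (ι : N ⟶ FlatMod.freeMod X m), Mono ι →
    ∃ (m' : ℕ) (ι' : N ⟶ FlatMod.freeMod X m'), Mono ι' ∧ grk (cokernel ι') = 0
  | 0, ι, h => ⟨0, ι, h, by
      letI : Field (X.presheaf.stalk (genericPoint X)) := inferInstanceAs (Field X.functionField)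
      haveI := ((DerSch.stalkFunctor X (genericPoint X)).map_isZero
        (IsZero.of_epi (cokernel.π ι) ((IsZero.iff_id_eq_zero (FlatMod.freeMod X 0)).2 (Sigma.hom_ext _ _ fun t => t.elim0))))
      exact by
        haveI : Subsingleton ((cokernel ι).presheaf.stalk (genericPoint X)) := ModuleCat.subsingleton_of_isZero this
        exact Module.finrank_zero_of_subsingleton⟩
  | m + 1, ι, h => by
    haveI := h
    rcases grk_coker_eq_zero_or_exists k hX ι with h0 | ⟨ι', h'⟩
    · exact ⟨m + 1, ι, h, h0⟩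
    · exact exists_full hX m ι' h'

variable [IsAlgClosed k]

/-- A subbundle without sections of a trivial bundle maps nontrivially to a point ideal. -/
theorem exists_hom_ideal (hdim : topologicalKrullDim X = 1) (hX : RegCurve X) {N : X.Modules} {r : ℕ}
    (hr : 0 < r) (hN : FlatMod.IsFinLocFreeOfRank r N) (m : ℕ) (ι : N ⟶ FlatMod.freeMod X m) (hι : Mono ι)
    (h0 : h k N 0 = 0) :
    ∃ (L : X.Modules) (φ : N ⟶ L), PicF.IsInvertible L ∧ Curv2.deg k X L 1 = -1 ∧ φ ≠ 0 := by
  classical
  haveI := isNoetherian_of_proper k X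
  haveI := hι
  obtain ⟨m, ι, hι, hC⟩ := exists_full k hX m ι hι
  haveI := hι
  have hCc : Coh.IsCoh (cokernel ι) := Groth.Agent.QC.isCoh_cokernel (isCoh_of_rank hN).1 (isCoh_freeMod m) ι
  -- the cokernel is not zero
  obtain ⟨P, hPC⟩ : ∃ P, P ∈ CohB1.support (cokernel ι) := by
    by_contra! hno
    have hz : IsZero (cokernel ι) := Devissage.isZero_of_support (Set.eq_empty_of_forall_notMem hno)
    haveI : Epi ι := Preadditive.epi_of_isZero_cokernel ι hz
    haveI : IsIso ι := isIso_of_mono_of_epi ι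
    rcases Nat.eq_zero_or_pos m with rfl | hm
    · have hz' : IsZero (FlatMod.freeMod X 0) := (IsZero.iff_id_eq_zero _).2 (Sigma.hom_ext _ _ fun t => t.elim0)
      exact W7Slope.pos_rank_not_isZero k hr hN (hz'.of_iso (asIso ι))
    · have hs : Sigma.ι (fun _ : Fin m => Coh.structureModule X) ⟨0, hm⟩ ≫ inv ι = 0 := by
        letI := secMod k N ⊤
        haveI := finite_proper k X N (isCoh_of_rank hN) 0
        haveI : Subsingleton (Coh.HH X N 0) := Module.finrank_zero_iff.1 h0
        haveI : Subsingleton Γ(N, ⊤) := (secH0 (k := k) N).toEquiv.subsingleton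
        exact TMul.hom_ext_val (Subsingleton.elim _ _)
      obtain ⟨π, g1, -, -⟩ := P1Split.exists_proj (fun _ : Fin m => Coh.structureModule X)
      have h10 : (𝟙 (Coh.structureModule X)) = 0 := by
        rw [← g1 ⟨0, hm⟩, (cancel_mono (inv ι)).1 (hs.trans zero_comp.symm), zero_comp]
      exact W7Slope.pos_rank_not_isZero k one_pos (isFinLocFreeOfRank_one TMul.isInvertible_structureModule)
        ((IsZero.iff_id_eq_zero _).2 h10)
  have hgen := VBTwo.generic_notMem_of_grk hCc hC
  have hZc : IsClosed (CohB1.support (cokernel ι)) := Groth.Agent.QC.isClosed_support hCc.2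
  have hP : IsClosed ({P} : Set X) :=
    SuppZero.isClosed_of_subset hZc (dim_le_zero_of_closed hX.dim hZc hgen) _ (by simpa using hPC)
  set I := Scheme.IdealSheafData.vanishingIdeal (⟨{P}, hP⟩ : Closeds X)
  obtain ⟨hIc, hQ⟩ := isCoh_idealMod I
  have hI := isInvertible_pointIdeal hX.dim hP (genericPoint_ne_of_closed (k := k) hdim hP) (hX.reg P)
  have hdI : Curv2.deg k X (ClSub.idealMod I) 1 = -1 := by
    have h := euler_pointIdeal (k := k) hP (TMul.isInvertible_structureModule (X := X))
    rw [euler_eq_of_iso (TMul.commIso _ _), euler_eq_of_iso (TMul.leftUnitIso _)] at h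
    rw [Curv2.deg, h]; push_cast; ring
  let Q := ClSub.quotMod I
  let q : Coh.structureModule X ⟶ Q := ClSub.toSubscheme I
  have hsuppQ : CohB1.support Q ⊆ ({P} : Set X) := (support_quotMod I).trans (by simp [I])
  let F := FlatMod.freeMod X m
  let T := WeilFin.lt' Q ι
  have hsuppM : ∀ (M : X.Modules), Coh.IsCoh M → ∀ S : Set X, S ⊆ CohB1.support (CohB1.tensorMod Q M) → IsClosed S := by
    intro M hM S hS
    refine SuppZero.isClosed_of_subset hP (topologicalKrullDim_zero_of_discreteTopology _) S (hS.trans ?_)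
    rw [SupportLib.support_tensor _ _ (fun x => RegDual.finite_stalk hQ x) (fun x => RegDual.finite_stalk hM x)]
    exact Set.inter_subset_left.trans hsuppQ
  -- the restriction to the point is not surjective on sections
  letI := secMod k (CohB1.tensorMod Q F) ⊤
  letI := secMod k (CohB1.tensorMod Q N) ⊤
  let G : Γ(CohB1.tensorMod Q N, ⊤) →ₗ[k] Γ(CohB1.tensorMod Q F, ⊤) :=
    { toFun := fun t => T.app ⊤ t
      map_add' := map_add _
      map_smul' := fun a t => TMul.app_smul T _ t }
  have hnsurj : LinearMap.range G ≠ ⊤ := by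
    intro htop
    haveI : Epi T := RPushQC.epi_of_app_surjective T fun U b => by
      obtain ⟨a, ha⟩ := SuppZero.exists_extend_global _ (hsuppM F (isCoh_freeMod m)) U b
      obtain ⟨a', ha'⟩ := LinearMap.range_eq_top.1 htop a
      refine ⟨res _ le_top a', ?_⟩
      rw [← app_res]
      show res _ le_top (G a') = b
      rw [ha', ha]
    haveI : PreservesColimitsOfSize.{0, 0} ((DCoh.tensorBi (X := X)).obj Q) :=
      (W7Hull.homShAdj Q).leftAdjoint_preservesColimits
    have hz : IsZero (CohB1.tensorMod Q (cokernel ι)) :=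
      (show IsZero (cokernel T) from isZero_cokernel_of_epi T).of_iso
        (PreservesCokernel.iso ((DCoh.tensorBi (X := X)).obj Q) ι)
    have hemp := Devissage.support_of_isZero hz
    rw [SupportLib.support_tensor _ _ (fun x => RegDual.finite_stalk hQ x) (fun x => RegDual.finite_stalk hCc x)] at hemp
    obtain ⟨y, hy⟩ : ∃ y, y ∈ CohB1.support Q := by
      by_contra! hno
      have hz := Devissage.isZero_of_support (Set.eq_empty_of_forall_notMem hno)
      have h1 : h k Q 0 = 1 := h0_quotMod_point hP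
      haveI : Subsingleton Γ(Q, ⊤) := ⟨fun a b => by
        have h2 := congrArg (fun f : Q ⟶ Q => f.app ⊤ a) ((IsZero.iff_id_eq_zero _).1 hz)
        have h3 := congrArg (fun f : Q ⟶ Q => f.app ⊤ b) ((IsZero.iff_id_eq_zero _).1 hz)
        exact h2.trans h3.symm⟩
      letI := secMod k Q ⊤
      rw [← finrank_sec, Module.finrank_zero_of_subsingleton] at h1
      exact absurd h1 (by norm_num)
    obtain rfl := Set.mem_singleton_iff.1 (hsuppQ hy)
    exact Set.notMem_empty y (by rw [← hemp]; exact ⟨hy, hPC⟩)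
  obtain ⟨c, hc, hcG⟩ := Submodule.exists_dual_map_eq_bot_of_lt_top (lt_top_iff_ne_top.2 hnsurj) inferInstance
  obtain ⟨π, h1, h2, h3⟩ := P1Split.exists_proj (fun _ : Fin m => Coh.structureModule X)
  letI := secMod k (CohB1.tensorMod Q (Coh.structureModule X)) ⊤
  letI := secMod k Q ⊤
  let u : Γ(CohB1.tensorMod Q (Coh.structureModule X), ⊤) := TMul.tm (TMul.val q ⊤) (show Γ(X, ⊤) from 1)
  let e (j : Fin m) : Coh.structureModule X ⟶ F := Sigma.ι (fun _ : Fin m => Coh.structureModule X) j
  let cj : Fin m → k := fun j => c ((WeilFin.lt' Q (e j)).app ⊤ u)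
  let lam : F ⟶ Coh.structureModule X := ∑ j, π j ≫ homOf (L := Coh.structureModule X) (cst k X ⊤ (cj j))
  have hqU : ∀ (U : X.Opens) (x : Γ(X, U)),
      (SecTwist.unitorR Q).hom.app U (TMul.tm (TMul.val q U) x) = q.app U x := fun U x => by
    rw [TMul.app_eq_smul q x]
    exact ResDesc.unitorR_tm Q _ _
  have hu : u ≠ 0 := fun h0' => by
    have h4 := congrArg ((SecTwist.unitorR Q).hom.app ⊤) h0'
    rw [hqU, map_zero] at h4
    have h5 : q = 0 := TMul.hom_ext_val (h4.trans rfl)
    haveI : Epi q := (ideal_shortExact I).epi_g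
    have h6 := (IsZero.iff_id_eq_zero Q).1 (IsZero.of_epi_eq_zero q h5)
    have h7 : h k Q 0 = 1 := h0_quotMod_point hP
    haveI : Subsingleton Γ(Q, ⊤) := ⟨fun a b =>
      (congrArg (fun f : Q ⟶ Q => f.app ⊤ a) h6).trans (congrArg (fun f : Q ⟶ Q => f.app ⊤ b) h6).symm⟩
    rw [← finrank_sec, Module.finrank_zero_of_subsingleton] at h7
    exact absurd h7 (by norm_num)
  have hspan : ∀ b : Γ(CohB1.tensorMod Q (Coh.structureModule X), ⊤), ∃ a : k, a • u = b := by
    refine (finrank_eq_one_iff_of_nonzero' u hu).1 ?_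
    rw [finrank_sec, h_eq_of_iso (SecTwist.unitorR Q) (q := 0)]
    exact h0_quotMod_point hP
  have hej : ∀ i, e i ≫ lam = homOf (L := Coh.structureModule X) (cst k X ⊤ (cj i)) := fun i => by
    rw [Preadditive.comp_sum, Finset.sum_eq_single i]
    · rw [← Category.assoc, show e i ≫ π i = 𝟙 _ from h1 i, Category.id_comp]
    · intro j _ hji
      rw [← Category.assoc, show e i ≫ π j = 0 from h2 i j hji.symm, zero_comp]
    · exact fun h => absurd (Finset.mem_univ _) h
  have hlamu : ∀ i, (WeilFin.lt' Q lam).app ⊤ ((WeilFin.lt' Q (e i)).app ⊤ u) = cj i • u := fun i => by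
    show (WeilFin.lt' Q lam).app ⊤ ((WeilFin.lt' Q (e i)).app ⊤ (TMul.tm (TMul.val q ⊤) (show Γ(X, ⊤) from 1))) = _
    rw [WeilFin.lt'_tm, WeilFin.lt'_tm]
    have h5 : lam.app ⊤ ((e i).app ⊤ (show Γ(X, ⊤) from 1)) = cst k X ⊤ (cj i) • (show Γ(X, ⊤) from 1) := by
      show (e i ≫ lam).app ⊤ (show Γ(X, ⊤) from 1) = _
      rw [hej, TMul.app_eq_smul, val_homOf, res_self]
      show (1 : Γ(X, ⊤)) * cst k X ⊤ (cj i) = cst k X ⊤ (cj i) * 1
      exact mul_comm _ _
    rw [h5]
    exact TMul.tm_smul _ _ _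
  have hb : ∀ b : Γ(CohB1.tensorMod Q F, ⊤), (WeilFin.lt' Q lam).app ⊤ b = c b • u := by
    haveI : ((DCoh.tensorBi (X := X)).obj Q).Additive := inferInstance
    intro b
    have hb' : b = ∑ j, (WeilFin.lt' Q (e j)).app ⊤ ((WeilFin.lt' Q (π j)).app ⊤ b) := by
      have h4 : (∑ j, WeilFin.lt' Q (π j) ≫ WeilFin.lt' Q (e j)) = 𝟙 _ := by
        simp only [WeilFin.lt', ← Functor.map_comp]
        exact (Functor.map_sum _ _ _).symm.trans ((congrArg _ h3).trans (CategoryTheory.Functor.map_id _ _))
      have h5 := congrArg (fun f : CohB1.tensorMod Q F ⟶ CohB1.tensorMod Q F => f.app ⊤ b) h4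
      dsimp only at h5
      rw [app_sum] at h5
      exact h5.symm
    rw [hb', map_sum, map_sum, Finset.sum_smul]
    refine Finset.sum_congr rfl fun j _ => ?_
    obtain ⟨a, ha⟩ := hspan ((WeilFin.lt' Q (π j)).app ⊤ b)
    have hl : ∀ {A B : X.Modules} (f : A ⟶ B) (s : Γ(A, ⊤)), f.app ⊤ (cst k X ⊤ a • s) = cst k X ⊤ a • f.app ⊤ s :=
      fun f s => TMul.app_smul f _ s
    have he : (WeilFin.lt' Q (e j)).app ⊤ (a • u) = a • (WeilFin.lt' Q (e j)).app ⊤ u := hl _ _
    rw [← ha, he, LinearMap.map_smul c, smul_eq_mul, mul_smul]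
    exact (hl (WeilFin.lt' Q lam) _).trans (congrArg (cst k X ⊤ a • ·) (hlamu j))
  have hG0 : ∀ t, (WeilFin.lt' Q lam).app ⊤ (G t) = 0 := fun t => by
    have h4 : c (G t) = 0 := by
      have h5 : c (G t) ∈ Submodule.map c (LinearMap.range G) := Submodule.mem_map_of_mem ⟨t, rfl⟩
      rw [hcG, Submodule.mem_bot] at h5
      exact h5
    rw [hb, h4, zero_smul]
  have hq0 : (ι ≫ lam) ≫ q = 0 := by
    apply Scheme.Modules.hom_ext
    intro U
    ext t
    obtain ⟨a, ha⟩ := SuppZero.exists_extend_global _ (hsuppM N (isCoh_of_rank hN)) U (TMul.tm (TMul.val q U) t)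
    have h4 : res _ (le_top : U ≤ ⊤) ((WeilFin.lt' Q lam).app ⊤ (T.app ⊤ a)) = 0 := by
      rw [show (WeilFin.lt' Q lam).app ⊤ (T.app ⊤ a) = 0 from hG0 a, map_zero]
    rw [app_res, app_res, ha, WeilFin.lt'_tm, WeilFin.lt'_tm] at h4
    have h5 := congrArg ((SecTwist.unitorR Q).hom.app U) h4
    rw [hqU, map_zero] at h5
    exact h5
  have hlam : ι ≫ lam ≠ 0 := fun hz => by
    have hl : lam ≠ 0 := fun h0' => hc (LinearMap.ext fun b => by
      have h4 := hb b
      rw [h0', show WeilFin.lt' Q (0 : F ⟶ Coh.structureModule X) = 0 from by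
        haveI : ((DCoh.tensorBi (X := X)).obj Q).Additive := inferInstance
        exact Functor.map_zero _ _ _] at h4
      exact (smul_eq_zero.1 h4.symm).resolve_right hu)
    have hd : cokernel.desc ι lam hz ≠ 0 := fun h0' => hl (by rw [← cokernel.π_desc ι lam hz, h0', comp_zero])
    haveI : Subsingleton ((cokernel ι).presheaf.stalk (genericPoint X)) := by
      by_contra hh
      exact hgen hh
    haveI : Subsingleton ((Coh.structureModule X).presheaf.stalk (genericPoint X)) :=
      (surjective_stalk_generic (TMul.isInvertible_structureModule (X := X)) _ hd).subsingleton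
    have h4 := grk_of_rank (isFinLocFreeOfRank_one (TMul.isInvertible_structureModule (X := X)))
    rw [grk, Module.finrank_zero_of_subsingleton] at h4
    exact zero_ne_one h4
  refine ⟨_, (ideal_shortExact I).exact.lift (ι ≫ lam) hq0, hI, hdI, fun h0' => hlam ?_⟩
  haveI := (ideal_shortExact I).mono_f
  rw [← (ideal_shortExact I).exact.lift_f (ι ≫ lam) hq0, h0', zero_comp]

end Groth.Agent.NegFilt

namespace Groth.Agent.NegFilt

variable {X : Scheme.{u}} (k : Type u) [Field k] [X.Over (Spec (CommRingCat.of k))]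
  [IsProper (X ↘ Spec (CommRingCat.of k))] [IsIntegral X] [IsAlgClosed k]

theorem exists_filtration (hdim : topologicalKrullDim X = 1) (hX : RegCurve X) :
    ∀ (r : ℕ) {N : X.Modules}, FlatMod.IsFinLocFreeOfRank r N → ∀ (m : ℕ) (ι : N ⟶ FlatMod.freeMod X m), Mono ι →
      h k N 0 = 0 → ∃ (M : Fin (r + 1) → X.Modules) (f : (j : Fin r) → (M j.succ ⟶ M j.castSucc)),
        Nonempty (M 0 ≅ N) ∧ IsZero (M (Fin.last r)) ∧ ∀ j : Fin r, Mono (f j) ∧ PicF.IsInvertible (cokernel (f j)) ∧
          Curv2.deg k X (cokernel (f j)) 1 < 0 := by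
  haveI := isNoetherian_of_proper k X
  intro r
  induction r with
  | zero => exact fun {N} hN m ι hι h0 => ⟨fun _ => N, fun j => j.elim0, ⟨Iso.refl N⟩, isZero_of_rank_zero hN, fun j => j.elim0⟩
  | succ r ih =>
    intro N hN m ι hι h0
    haveI := hι
    obtain ⟨L, φ, hL, hdL, hφ⟩ := exists_hom_ideal k hdim hX r.succ_pos hN m ι hι h0
    obtain ⟨I, p, i, hp, hi, hfac, hI, hK, hrk, hI1, -, hpos⟩ := exists_image k hX hN (isFinLocFreeOfRank_one hL) φ
    have := hpos hφ
    have hI' : FlatMod.IsFinLocFreeOfRank 1 I := (show grk I = 1 by omega) ▸ hI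
    haveI := hi
    haveI := hp
    have hdI : Curv2.deg k X I 1 ≤ Curv2.deg k X L 1 :=
      (deg_le_of_mono k hX hI' (isFinLocFreeOfRank_one hL) i).1
    obtain ⟨w, hS⟩ := Higgs.shortExact_image φ p i hfac
    have hK' : FlatMod.IsFinLocFreeOfRank r (kernel φ) := (show grk (kernel φ) = r by omega) ▸ hK
    haveI := finite_proper k X N (isCoh_of_rank hN) 0
    have hK0 : h k (kernel φ) 0 = 0 := by
      haveI : Subsingleton (Coh.HH X N 0) := Module.finrank_zero_iff.1 h0
      haveI : Subsingleton (Coh.HH X (kernel φ) 0) := (injective_f (k := k) hS).subsingleton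
      exact h_eq_zero inferInstance
    obtain ⟨M, f, ⟨e⟩, hz, hf⟩ := ih hK' m (kernel.ι φ ≫ ι) (mono_comp _ _) hK0
    let f0 : M 0 ⟶ N := e.hom ≫ kernel.ι φ
    haveI := hS.epi_g
    let c : cokernel f0 ≅ I := cokernelEpiComp e.hom (kernel.ι φ) ≪≫
      (cokernelIsCokernel (kernel.ι φ)).coconePointUniqueUpToIso hS.gIsCokernel
    refine ⟨Fin.cons N M, Fin.cases f0 (fun j => f j), ⟨Iso.refl N⟩, ?_, ?_⟩
    · rw [← Fin.succ_last]
      exact hz
    · refine Fin.cases ⟨mono_comp _ _, ParaFLib.isInvertible_of_iso c.symm (ZeroSch.isInvertible_of_rankOne hI'), ?_⟩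
        (fun j => hf j)
      show Curv2.deg k X (cokernel f0) 1 < 0
      rw [W7Slope.deg_iso (k := k) c]
      omega

end Groth.Agent.NegFilt
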